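import Groth.Agent.L01.NagataFiniteType
import Mathlib.RingTheory.Ideal.KrullsHeightTheorem
import Mathlib.RingTheory.Ideal.GoingUp
import Mathlib.RingTheory.Ideal.MinimalPrime.Noetherian
import Mathlib.RingTheory.Localization.Integral
import Mathlib.RingTheory.IntegralClosure.IntegrallyClosed
import Mathlib.RingTheory.RingHom.FiniteType
import Mathlib.RingTheory.DiscreteValuationRing.TFAE

/-!
Normal curves through a closed point of an affine scheme, avoiding a given divisor elsewhere.
-/

noncomputable section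

set_option linter.style.haveILetI false

namespace Groth.L19.Curves

universe u

/-- A prime just below `P` not containing `a`. -/
theorem exists_prime_avoid {B : Type u} [CommRing B] [IsNoetherianRing B] [IsDomain B] (P : Ideal B)
    [P.IsPrime] (hP : P ≠ ⊥) {a : B} (ha : a ≠ 0) :
    ∃ q : Ideal B, q.IsPrime ∧ q < P ∧ a ∉ q ∧ ∀ r : Ideal B, r.IsPrime → q < r → ¬ r < P := by
  classical
  obtain ⟨q, ⟨hq, hqP, haq⟩, hmax⟩ := set_has_maximal_iff_noetherian.2 inferInstance
    {q : Ideal B | q.IsPrime ∧ q < P ∧ a ∉ q} ⟨⊥, Ideal.isPrime_bot, bot_lt_iff_ne_bot.mpr hP, ha⟩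
  refine ⟨q, hq, hqP, haq, fun r hr hqr hrP => ?_⟩
  have har : a ∈ r := by_contra fun h => hmax r ⟨hr, hrP, h⟩ hqr
  have hJr : q ⊔ Ideal.span {a} ≤ r := sup_le hqr.le ((Ideal.span_singleton_le_iff_mem r).mpr har)
  have hfin := Ideal.finite_minimalPrimes_of_isNoetherianRing B (q ⊔ Ideal.span {a})
  have havoid : ¬ (P : Set B) ⊆ ⋃ p ∈ (↑hfin.toFinset : Set (Ideal B)), (p : Set B) := by
    rw [Ideal.subset_union_prime ⊤ ⊤ fun p hp _ _ => (hfin.mem_toFinset.mp hp).1.1]
    rintro ⟨p, hp, hPp⟩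
    exact (lt_of_lt_of_le hrP hPp).not_ge ((hfin.mem_toFinset.mp hp).2 ⟨hr, hJr⟩ (hrP.le.trans hPp))
  obtain ⟨b, hbP, hb⟩ := Set.not_subset.mp havoid
  simp only [Set.mem_iUnion, SetLike.mem_coe, not_exists, Set.Finite.mem_toFinset] at hb
  obtain ⟨r', hr', hr'P⟩ := Ideal.exists_minimalPrimes_le
    (sup_le hqP.le ((Ideal.span_singleton_le_iff_mem P).mpr hbP) : q ⊔ Ideal.span {b} ≤ P)
  have : r'.IsPrime := hr'.1.1
  have hqr' : q ≤ r' := le_sup_left.trans hr'.1.2
  have hbr' : b ∈ r' := hr'.1.2 (Ideal.mem_sup_right (Ideal.subset_span rfl))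
  by_cases har' : a ∈ r'
  · obtain ⟨p, hp, hpr'⟩ := Ideal.exists_minimalPrimes_le
      (sup_le hqr' ((Ideal.span_singleton_le_iff_mem r').mpr har') : q ⊔ Ideal.span {a} ≤ r')
    have : p.IsPrime := hp.1.1
    have hqp : q < p := lt_of_le_of_ne (le_sup_left.trans hp.1.2) fun h =>
      haq (h ▸ hp.1.2 (Ideal.mem_sup_right (Ideal.subset_span rfl)))
    have hpr : p < r' := lt_of_le_of_ne hpr' fun h => hb p hp (h ▸ hbr')
    -- work in the quotient by `q`
    let π := Ideal.Quotient.mk q
    have hπ : Function.Surjective π := Ideal.Quotient.mk_surjective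
    have hker : RingHom.ker π = q := Ideal.mk_ker
    have : (p.map π).IsPrime := Ideal.map_isPrime_of_surjective hπ (hker.le.trans hqp.le)
    have : (r'.map π).IsPrime := Ideal.map_isPrime_of_surjective hπ (hker.le.trans hqr')
    have hcomap : ∀ s : Ideal B, q ≤ s → (s.map π).comap π = s := fun s hs => by
      rw [Ideal.comap_map_of_surjective π hπ]
      exact sup_eq_left.mpr (hker.le.trans hs)
    have hlt1 : (⊥ : Ideal (B ⧸ q)) < p.map π := by
      refine bot_lt_iff_ne_bot.mpr fun h => hqp.not_ge ?_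
      rw [← hcomap p hqp.le, h]
      exact hker.le
    have hlt2 : p.map π < r'.map π := lt_of_le_of_ne (Ideal.map_mono hpr.le) fun h =>
      hpr.ne (by rw [← hcomap p hqp.le, h, hcomap r' hqr'])
    have hmin : r'.map π ∈ (Ideal.span {π b}).minimalPrimes := by
      refine ⟨⟨inferInstance, (Ideal.span_singleton_le_iff_mem _).mpr (Ideal.mem_map_of_mem π hbr')⟩,
        fun J hJ hJle => ?_⟩
      haveI := hJ.1
      have h1 : J.comap π ≤ r' := (Ideal.comap_mono hJle).trans (hcomap r' hqr').le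
      have h2 : q ⊔ Ideal.span {b} ≤ J.comap π := sup_le (hker.ge.trans (Ideal.comap_mono bot_le))
        ((Ideal.span_singleton_le_iff_mem _).mpr (hJ.2 (Ideal.subset_span rfl)))
      exact (Ideal.map_mono (hr'.2 ⟨Ideal.IsPrime.comap π, h2⟩ h1)).trans Ideal.map_comap_le
    have h1 := Ideal.height_le_one_of_isPrincipal_of_mem_minimalPrimes (Ideal.span {π b}) _ hmin
    have h2 := Ideal.height_strict_mono_of_isPrime hlt1
    rw [Ideal.height_bot] at h2
    exact ((Order.one_le_iff_pos.mpr h2).trans_lt (Ideal.height_strict_mono_of_isPrime hlt2)).not_ge h1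
  · refine hmax r' ⟨hr'.1.1, lt_of_le_of_ne hr'P fun h => har' (h ▸ hrP.le har), har'⟩
      (lt_of_le_of_ne hqr' fun h => ?_)
    obtain ⟨p, hp, -⟩ := Ideal.exists_minimalPrimes_le hJr
    exact hb p hp (hp.1.2 (Ideal.mem_sup_left (h ▸ hbr')))

/-- A normal curve germ over the closed point `P`, meeting the zeros of `a` only at its marked point. -/
theorem exists_curve {B : Type u} [CommRing B] [IsDomain B] (hB : CAlg.IsNagata B) (P : Ideal B)
    [hPm : P.IsMaximal] (hP : P ≠ ⊥) {a : B} (ha : a ≠ 0) :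
    ∃ (C : Type u) (_ : CommRing C) (_ : IsDomain C) (_ : IsIntegrallyClosed C)
      (_ : IsNoetherianRing C) (φ : B →+* C) (c : Ideal C), φ.FiniteType ∧ c.IsMaximal ∧
      c.comap φ = P ∧ c.height = 1 ∧ φ a ≠ 0 ∧ ∀ r : Ideal C, r.IsPrime → r ≠ c → φ a ∉ r := by
  classical
  haveI := hB.1
  obtain ⟨q, hq, hqP, haq, hbetween⟩ := exists_prime_avoid P hP ha
  haveI := hq
  let L := FractionRing (B ⧸ q)
  haveI hfinC : Module.Finite (B ⧸ q) (integralClosure (B ⧸ q) L) :=
    hB.2 q L (Module.Finite.self _)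
  let C₀ := integralClosure (B ⧸ q) L
  haveI : IsNoetherianRing C₀ := IsNoetherianRing.of_finite (B ⧸ q) C₀
  haveI : IsIntegrallyClosed C₀ := integralClosure.isIntegrallyClosedOfFiniteExtension L
  haveI : Algebra.IsIntegral (B ⧸ q) C₀ := inferInstance
  let Pq : Ideal (B ⧸ q) := P.map (Ideal.Quotient.mk q)
  haveI : Pq.IsMaximal :=
    Ideal.IsMaximal.map_of_surjective_of_ker_le Ideal.Quotient.mk_surjective
      (by rw [Ideal.mk_ker]; exact hqP.le)
  have hinj : Function.Injective (algebraMap (B ⧸ q) C₀) := fun u v h =>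
    IsFractionRing.injective (B ⧸ q) L (congrArg Subtype.val h)
  obtain ⟨c, hc, hcP⟩ := Ideal.exists_ideal_over_maximal_of_isIntegral (S := C₀) Pq
    (by rw [(RingHom.injective_iff_ker_eq_bot _).mp hinj]; exact bot_le)
  let φ₀ : B →+* C₀ := (algebraMap (B ⧸ q) C₀).comp (Ideal.Quotient.mk q)
  have hφc : c.comap φ₀ = P := by
    rw [← Ideal.comap_comap]
    show (c.comap (algebraMap (B ⧸ q) C₀)).comap _ = _
    rw [hcP, Ideal.comap_map_of_surjective _ Ideal.Quotient.mk_surjective]
    refine sup_eq_left.mpr ?_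
    show RingHom.ker _ ≤ P
    rw [Ideal.mk_ker]; exact hqP.le
  have hker : RingHom.ker φ₀ = q := by
    rw [← RingHom.comap_ker, (RingHom.injective_iff_ker_eq_bot _).mp hinj, ← RingHom.ker_eq_comap_bot,
      Ideal.mk_ker]
  have hbelow : ∀ r : Ideal C₀, r.IsPrime → r < c → r = ⊥ := by
    intro r hr hlt
    obtain ⟨hle, x, hxc, hxr⟩ := SetLike.lt_iff_le_and_exists.mp hlt
    have h1 := Ideal.comap_lt_comap_of_integral_mem_sdiff hle ⟨hxc, hxr⟩
      (Algebra.IsIntegral.isIntegral (R := B ⧸ q) x)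
    refine Ideal.eq_bot_of_comap_eq_bot (R := B ⧸ q) ?_
    rw [hcP] at h1
    by_contra hne
    have hs : Function.Surjective (Ideal.Quotient.mk q) := Ideal.Quotient.mk_surjective
    have hq' : q = (⊥ : Ideal (B ⧸ q)).comap (Ideal.Quotient.mk q) :=
      Ideal.mk_ker.symm.trans (RingHom.ker_eq_comap_bot _)
    haveI := hr
    refine hbetween ((r.comap (algebraMap (B ⧸ q) C₀)).comap (Ideal.Quotient.mk q)) inferInstance ?_ ?_
    · refine lt_of_le_of_ne (hq'.le.trans (Ideal.comap_mono bot_le)) fun h => hne ?_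
      exact Ideal.comap_injective_of_surjective _ hs (h.symm.trans hq')
    · refine lt_of_le_of_ne ((Ideal.comap_mono h1.le).trans_eq ?_) fun h => h1.ne ?_
      · rw [← hcP, Ideal.comap_comap]; exact hφc
      · refine Ideal.comap_injective_of_surjective _ hs (h.trans ?_)
        rw [← hcP, Ideal.comap_comap]; exact hφc.symm
  have haφ : φ₀ a ≠ 0 := fun h => haq (hker.le h)
  have hcb : c ≠ ⊥ := fun h => hqP.ne (by
    rw [← hker, RingHom.ker_eq_comap_bot, ← h, hφc])
  -- discard the other zeros of `a`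
  have hfin := Ideal.finite_minimalPrimes_of_isNoetherianRing C₀ (Ideal.span {φ₀ a})
  obtain ⟨e, hec, he⟩ : ∃ e ∉ c, ∀ r ∈ (Ideal.span {φ₀ a}).minimalPrimes, r ≠ c → e ∈ r := by
    have : ∀ r ∈ (Ideal.span {φ₀ a}).minimalPrimes, r ≠ c → ∃ e ∈ r, e ∉ c := fun r hr hne => by
      by_contra! hle
      rcases (show r ≤ c from hle).lt_or_eq with h | h
      · exact haφ (by
          have := hbelow r hr.1.1 h
          have hmem := hr.1.2 (Ideal.subset_span rfl)
          rwa [this, Ideal.mem_bot] at hmem)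
      · exact hne h
    choose! g hg hgc using this
    refine ⟨∏ r ∈ hfin.toFinset.filter (· ≠ c), g r, ?_, fun r hr hne => ?_⟩
    · intro h
      obtain ⟨r, hr, hr'⟩ := (Ideal.IsPrime.prod_mem_iff (hp := hc.isPrime)).mp h
      rw [Finset.mem_filter, Set.Finite.mem_toFinset] at hr
      exact hgc r hr.1 hr.2 hr'
    · exact Ideal.prod_mem r (Finset.mem_filter.mpr ⟨hfin.mem_toFinset.mpr hr, hne⟩) (hg r hr hne)
  have he0 : e ≠ 0 := fun h => hec (h ▸ zero_mem c)
  let C := Localization.Away e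
  have hpow : Submonoid.powers e ≤ nonZeroDivisors C₀ := powers_le_nonZeroDivisors_of_noZeroDivisors he0
  haveI : IsDomain C := IsLocalization.isDomain_localization hpow
  haveI : IsIntegrallyClosed C := isIntegrallyClosed_of_isLocalization C (Submonoid.powers e) hpow
  haveI : IsNoetherianRing C := IsLocalization.isNoetherianRing (Submonoid.powers e) C inferInstance
  have hdisj : Disjoint (Submonoid.powers e : Set C₀) (c : Set C₀) := by
    rw [Set.disjoint_left]
    rintro _ ⟨n, rfl⟩ hn
    exact hec (hc.isPrime.mem_of_pow_mem n hn)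
  let c' := c.map (algebraMap C₀ C)
  haveI hc'p : c'.IsPrime := IsLocalization.isPrime_of_isPrime_disjoint _ C c hc.isPrime hdisj
  have hc' : c'.comap (algebraMap C₀ C) = c :=
    IsLocalization.comap_map_of_isPrime_disjoint _ C hc.isPrime hdisj
  have hmap : ∀ r : Ideal C, (r.comap (algebraMap C₀ C)).map (algebraMap C₀ C) = r :=
    IsLocalization.map_comap (Submonoid.powers e) C
  have hc'max : c'.IsMaximal := by
    obtain ⟨M, hM, hle⟩ := Ideal.exists_le_maximal c' hc'p.ne_top
    have h := hc.eq_of_le (Ideal.IsPrime.comap (algebraMap C₀ C)).ne_top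
      (hc'.ge.trans (Ideal.comap_mono hle))
    rwa [show c' = M by rw [← hmap M, ← h]]
  refine ⟨C, inferInstance, inferInstance, inferInstance, inferInstance, (algebraMap C₀ C).comp φ₀, c', ?_,
    hc'max, ?_, ?_, ?_, fun r hr hne har => hne ?_⟩
  · refine RingHom.FiniteType.comp ?_ (RingHom.FiniteType.comp ?_ ?_)
    · exact RingHom.finiteType_algebraMap.mpr inferInstance
    · exact RingHom.finiteType_algebraMap.mpr inferInstance
    · exact RingHom.FiniteType.of_surjective _ Ideal.Quotient.mk_surjective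
  · rw [← Ideal.comap_comap, hc', hφc]
  · refine le_antisymm (Ideal.height_le_iff.mpr fun r hr hlt => ?_) ?_
    · have h1 : r.comap (algebraMap C₀ C) < c :=
        lt_of_le_of_ne ((Ideal.comap_mono hlt.le).trans hc'.le) fun h =>
          hlt.ne ((hmap r).symm.trans (congrArg (Ideal.map (algebraMap C₀ C)) h))
      have h2 := hbelow _ (Ideal.IsPrime.comap _) h1
      rw [← hmap r, h2, Ideal.map_bot, Ideal.height_bot]
      exact one_pos
    · rw [Order.one_le_iff_pos, pos_iff_ne_zero, Ne, Ideal.height_eq_zero_iff_eq_bot]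
      intro h
      exact hcb (by
        rw [← hc', h, ← RingHom.ker_eq_comap_bot]
        exact (RingHom.injective_iff_ker_eq_bot _).mp (IsLocalization.injective C hpow))
  · exact fun h => haφ ((map_eq_zero_iff _ (IsLocalization.injective C hpow)).mp h)
  · have hr₀ := IsLocalization.isPrime_iff_isPrime_disjoint (Submonoid.powers e) C r |>.mp hr
    obtain ⟨s, hs, hsr⟩ := Ideal.exists_minimalPrimes_le
      (J := r.comap (algebraMap C₀ C)) ((Ideal.span_singleton_le_iff_mem _).mpr
        (show φ₀ a ∈ r.comap (algebraMap C₀ C) from har))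
    by_cases hsc : s = c
    · subst hsc
      have h : s = r.comap (algebraMap C₀ C) := hc.eq_of_le hr₀.1.ne_top hsr
      rw [← hmap r, ← h]
    · exact absurd (hsr (he s hs hsc))
        fun hh => Set.disjoint_left.mp hr₀.2 (Submonoid.mem_powers e) hh

end Groth.L19.Curves
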