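import Groth.Agent.L18.ValCrit2
import Groth.Agent.L19.Curves.Ring
import Mathlib.AlgebraicGeometry.Morphisms.FiniteType
import Mathlib.AlgebraicGeometry.Noetherian
import Mathlib.AlgebraicGeometry.Properties

/-!
The valuative criteria tested on normal curves over a Nagata base.
-/

noncomputable section

namespace Groth.L19.Curves

open CategoryTheory AlgebraicGeometry Limits IsLocalRing

universe u

set_option backward.isDefEq.respectTransparency.types false
set_option backward.isDefEq.respectTransparency false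
set_option linter.style.haveILetI false

theorem isLocallyNoetherian_of_nagata {S : Scheme.{u}}
    (hS : ∀ W : S.affineOpens, CAlg.IsNagata Γ(S, W)) : IsLocallyNoetherian S :=
  ⟨fun W => (hS W).1⟩

/-- A one-dimensional normal Noetherian local domain is a valuation ring. -/
theorem valuationRing_of_dim_one {R : Type u} [CommRing R] [IsNoetherianRing R] [IsLocalRing R]
    [IsDomain R] [IsIntegrallyClosed R] (h : ringKrullDim R = 1) : ValuationRing R := by
  have hht : (maximalIdeal R).height = 1 := by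
    have := IsLocalRing.maximalIdeal_height_eq_ringKrullDim (R := R)
    rw [h] at this
    exact_mod_cast this
  have hmb : maximalIdeal R ≠ ⊥ := Ideal.ne_bot_of_height_eq_one hht
  have key : (IsIntegrallyClosed R ∧ ∃! P : Ideal R, P ≠ ⊥ ∧ P.IsPrime) ↔ ValuationRing R :=
    (IsDiscreteValuationRing.TFAE R fun hf => hmb (isField_iff_maximalIdeal_eq.mp hf)).out 3 1
  refine key.mp ⟨‹_›, maximalIdeal R, ⟨hmb, inferInstance⟩, fun P hP => ?_⟩
  by_contra hne
  haveI := hP.2
  have h1 := Ideal.height_strict_mono_of_isPrime (lt_of_le_of_ne (le_maximalIdeal hP.2.ne_top) hne)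
  rw [hht, Order.lt_one_iff, Ideal.height_eq_zero_iff_eq_bot] at h1
  exact hP.1 h1

/-- The lifting condition on normal curves over `S`. -/
def CurveLifts {X Y S : Scheme.{u}} (q : Y ⟶ S) (f : X ⟶ Y) : Prop :=
  ∀ (C : Scheme.{u}) (r : C ⟶ S) [IsIntegral C] [LocallyOfFiniteType r] [QuasiCompact r],
    (∀ x : C, IsIntegrallyClosed (C.presheaf.stalk x)) →
    ∀ (c : C), IsClosed ({c} : Set C) → ringKrullDim (C.presheaf.stalk c) = 1 →
    ∀ (U : C.Opens), (U : Set C) = {c}ᶜ →
    ∀ (u : (U : Scheme.{u}) ⟶ X) (g : C ⟶ Y), g ≫ q = r → u ≫ f = U.ι ≫ g →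
    ∀ (k : Spec (CommRingCat.of (FractionRing (C.presheaf.stalk c))) ⟶ (U : Scheme.{u})),
      k ≫ U.ι = Spec.map (CommRingCat.ofHom (algebraMap (C.presheaf.stalk c)
        (FractionRing (C.presheaf.stalk c)))) ≫ C.fromSpecStalk c →
    ∃ l : Spec (C.presheaf.stalk c) ⟶ X, l ≫ f = C.fromSpecStalk c ≫ g ∧
      Spec.map (CommRingCat.ofHom (algebraMap (C.presheaf.stalk c)
        (FractionRing (C.presheaf.stalk c)))) ≫ l = k ≫ u

variable {X Y S : Scheme.{u}} (q : Y ⟶ S) [LocallyOfFiniteType q] (f : X ⟶ Y) [LocallyOfFiniteType f]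
  [QuasiCompact f]

/-- Universal closedness can be tested on normal curves. -/
theorem universallyClosed_of_curveLifts (hS : ∀ W : S.affineOpens, CAlg.IsNagata Γ(S, W))
    (H : CurveLifts q f) : UniversallyClosed f := by
  classical
  haveI : IsLocallyNoetherian S := isLocallyNoetherian_of_nagata hS
  refine .of_valuativeCriterion f (Groth.L18.existence_of_residueField f fun x V h hh => ?_)
  obtain ⟨_, ⟨S₀, hS₀, rfl⟩, hcS, -⟩ := S.isBasis_affineOpens.exists_subset_of_mem_open
    (Set.mem_univ (q (h (closedPoint V)))) isOpen_univ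
  replace hS₀ : IsAffineOpen S₀ := hS₀
  obtain ⟨_, ⟨W, hW, rfl⟩, hcW, hWS⟩ := Y.isBasis_affineOpens.exists_subset_of_mem_open
    (show h (closedPoint V) ∈ q ⁻¹ᵁ S₀ from hcS) (q ⁻¹ᵁ S₀).2
  replace hW : IsAffineOpen W := hW
  obtain ⟨φW, hφW⟩ := Groth.L18.exists_eq_SpecMap_fromSpec hW h
    (Groth.L18.range_subset_of_closedPoint_mem h hcW)
  have hxW : f x ∈ W := by
    have := Groth.L18.range_subset_of_closedPoint_mem h hcW
      ⟨Spec.map (CommRingCat.ofHom V.subtype) (closedPoint (X.residueField x)), rfl⟩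
    erw [← Scheme.Hom.comp_apply, hh, Scheme.Hom.comp_apply,
      Scheme.fromSpecResidueField_apply] at this
    exact this
  obtain ⟨s₀, hs₀, he⟩ := isCompact_and_isOpen_iff_finite_and_eq_biUnion_affineOpens.mp
    ⟨f.isCompact_preimage hW.isCompact, (f ⁻¹ᵁ W).2⟩
  obtain ⟨s, rfl⟩ := hs₀.exists_finset_coe
  have hle : ∀ U ∈ s, (U : X.Opens) ≤ f ⁻¹ᵁ W := fun U hU y hy =>
    he.ge (Set.mem_iUnion₂.mpr ⟨U, hU, hy⟩)
  by_cases hall : ∃ U ∈ s, ∃ hx : x ∈ (U : X.Opens), ∀ a, (X.evaluation U x hx).hom a ∈ V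
  · obtain ⟨U, hU, hx, hmem⟩ := hall
    exact Groth.L18.exists_lift_of_evaluation_mem f V h hh U.2 hx hW (hle U hU) hcW hmem
  exfalso
  push Not at hall
  choose! cf hcf using fun U (hU : U ∈ s) => fun hx : x ∈ (U : X.Opens) => hall U hU hx
  let ι := {U // U ∈ s ∧ x ∈ (U : X.Opens)}
  have : Finite ι := Finite.of_injective (fun j : ι => (⟨j.1, j.2.1⟩ : {U // U ∈ s}))
    fun i j h => Subtype.ext (congrArg Subtype.val h :)
  let ev : ∀ (j : ι), X.residueField x := fun j => (X.evaluation j.1 x j.2.2).hom (cf j.1)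
  let K := X.residueField x
  let θ : Γ(Y, W) →+* K := V.subtype.comp φW.hom
  let _ : Algebra Γ(Y, W) K := θ.toAlgebra
  -- generators on a neighbourhood of `x`
  obtain ⟨U₀', hU₀, hx₀⟩ := Set.mem_iUnion₂.mp (he.le (hxW : x ∈ (f ⁻¹ᵁ W : X.Opens).1))
  have hle₀ : (U₀' : X.Opens) ≤ f ⁻¹ᵁ W := hle U₀' hU₀
  set e₀ := (X.evaluation U₀' x hx₀).hom with he₀
  have hθ : ∀ b, e₀ ((f.appLE W U₀' hle₀).hom b) = θ b := by
    intro b
    have h1 := Groth.L18.SpecMap_evaluation_eq f U₀'.2 hx₀ hW hle₀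
    rw [← hh, hφW, ← Spec.map_comp_assoc, cancel_mono] at h1
    exact (congr($(Spec.map_injective h1) b)).symm
  obtain ⟨t, ht⟩ : ∃ t : Finset Γ(X, (U₀' : X.Opens)),
      Subring.closure (Set.range (f.appLE W U₀' hle₀).hom ∪ t) = ⊤ := by
    let _ : Algebra Γ(Y, W) Γ(X, (U₀' : X.Opens)) := (f.appLE W U₀' hle₀).hom.toAlgebra
    obtain ⟨t, ht⟩ : (⊤ : Subalgebra Γ(Y, W) Γ(X, (U₀' : X.Opens))).FG :=
      (f.finiteType_appLE hW U₀'.2 hle₀).1
    refine ⟨t, top_unique fun a _ => ?_⟩
    have ha : a ∈ Algebra.adjoin Γ(Y, W) (t : Set Γ(X, (U₀' : X.Opens))) := ht.ge Algebra.mem_top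
    exact Algebra.adjoin_eq_ring_closure (R := Γ(Y, W)) (t : Set Γ(X, (U₀' : X.Opens))) ▸ ha
  let pm : K → K := fun z => if z ∈ V then z else z⁻¹
  let B : Subalgebra Γ(Y, W) K :=
    Algebra.adjoin Γ(Y, W) (Set.range (fun j : ι => (ev j)⁻¹) ∪ (pm ∘ e₀) '' t)
  have hBV : ∀ b : B, (b : K) ∈ V := by
    rintro ⟨b, hb⟩
    induction hb using Algebra.adjoin_induction with
    | mem w hw =>
      rcases hw with ⟨j, rfl⟩ | ⟨z, -, rfl⟩
      · exact (V.mem_or_inv_mem _).resolve_left (hcf j.1 j.2.1 j.2.2)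
      · show pm (e₀ z) ∈ V
        dsimp only [pm]
        split
        · assumption
        · exact (V.mem_or_inv_mem (e₀ z)).resolve_left (by assumption)
    | algebraMap a => exact (φW.hom a).2
    | add _ _ _ _ h1 h2 => exact add_mem h1 h2
    | mul _ _ _ _ h1 h2 => exact mul_mem h1 h2
  haveI : Algebra.FiniteType Γ(Y, W) B := (Subalgebra.fg_iff_finiteType B).mp
    ⟨((Set.finite_range fun j : ι => (ev j)⁻¹).union (t.finite_toSet.image (pm ∘ e₀))).toFinset,
      by rw [Set.Finite.coe_toFinset]⟩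
  have hBN : CAlg.IsNagata B := by
    refine Groth.L01.Nagata.isNagata_of_finiteType (R := Γ(Y, W)) ?_
    let _ : Algebra Γ(S, S₀) Γ(Y, W) := (q.appLE S₀ W hWS).hom.toAlgebra
    have : Algebra.FiniteType Γ(S, S₀) Γ(Y, W) := q.finiteType_appLE hS₀ hW hWS
    exact Groth.L01.Nagata.isNagata_of_finiteType (hS ⟨S₀, hS₀⟩)
  let γ : t → B := fun z =>
    if e₀ z.1 ∈ V then 1 else ⟨pm (e₀ z.1), Algebra.subset_adjoin (Or.inr ⟨z.1, z.2, rfl⟩)⟩
  let a : B := ∏ z : t, γ z
  have hγ0 : ∀ z, γ z ≠ 0 := fun z => by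
    dsimp only [γ]
    split
    · exact one_ne_zero
    · next hz =>
      intro h0
      have h1 : pm (e₀ z.1) = 0 := congrArg Subtype.val h0
      simp only [pm, if_neg hz, inv_eq_zero] at h1
      exact hz (h1 ▸ zero_mem V)
  have ha : a ≠ 0 := Finset.prod_ne_zero_iff.mpr fun z _ => hγ0 z
  let incl : B →+* V := B.val.toRingHom.codRestrict V.toSubring hBV
  obtain ⟨P, hP, hP₀⟩ := Ideal.exists_le_maximal ((maximalIdeal V).comap incl)
    (Ideal.IsPrime.comap incl).ne_top
  have hev : ∀ j : ι, ev j ≠ 0 := fun j h0 => hcf j.1 j.2.1 j.2.2 (by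
    show ev j ∈ V
    rw [h0]; exact zero_mem V)
  let bj : ι → B := fun j => ⟨(ev j)⁻¹, Algebra.subset_adjoin (Or.inl ⟨j, rfl⟩)⟩
  have hbj : ∀ j, bj j ∈ P := fun j => by
    refine hP₀ ((V.valuation_lt_one_iff _).mpr ?_)
    show V.valuation (ev j)⁻¹ < 1
    rw [map_inv₀]
    exact inv_lt_one_of_one_lt₀
      (not_le.mp (mt (V.valuation_le_one_iff _).mp (hcf j.1 j.2.1 j.2.2)))
  have hPb : P ≠ ⊥ := fun h0 => by
    have h1 := hbj ⟨U₀', hU₀, hx₀⟩
    rw [h0, Ideal.mem_bot] at h1
    exact inv_ne_zero (hev _) (congrArg Subtype.val h1)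
  obtain ⟨C, _, _, _, _, φ, c, hφft, hc, hcP, hcht, hφa, hzero⟩ := exists_curve hBN P hPb ha
  -- sections of `U₀'` have denominators dividing a power of `a`
  let Ba := Localization.Away a
  have hunit : IsUnit (B.val.toRingHom a) :=
    isUnit_iff_ne_zero.mpr fun h0 => ha (Subtype.ext h0)
  let jK : Ba →+* K := IsLocalization.Away.lift a hunit
  have hjK : ∀ b, jK (algebraMap B Ba b) = (b : K) := IsLocalization.Away.lift_eq a hunit
  have hjKinj : Function.Injective jK := by
    refine (IsLocalization.lift_injective_iff _).mpr fun u v => ⟨fun e => ?_, fun e => ?_⟩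
    · exact congrArg _ (IsLocalization.injective Ba
        (powers_le_nonZeroDivisors_of_noZeroDivisors ha) e)
    · exact congrArg _ (Subtype.ext e)
  have hrange : ∀ b, e₀ b ∈ jK.range := by
    intro b
    have hb : b ∈ Subring.closure (Set.range (f.appLE W U₀' hle₀).hom ∪ t) := ht ▸ trivial
    induction hb using Subring.closure_induction with
    | mem w hw =>
      rcases hw with ⟨d, rfl⟩ | hw
      · exact ⟨algebraMap B Ba (algebraMap _ B d), (hjK _).trans (hθ d).symm⟩
      · by_cases hz : e₀ w ∈ V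
        · have hp : pm (e₀ w) = e₀ w := if_pos hz
          exact ⟨algebraMap B Ba ⟨pm (e₀ w), Algebra.subset_adjoin (Or.inr ⟨w, hw, rfl⟩)⟩,
            (hjK _).trans hp⟩
        · let rest : B := ∏ z ∈ Finset.univ.erase (⟨w, hw⟩ : t), γ z
          have hfac : (a : K) = (e₀ w)⁻¹ * rest := by
            show ((∏ z : t, γ z : B) : K) = _
            rw [← Finset.mul_prod_erase _ _ (Finset.mem_univ (⟨w, hw⟩ : t)), MulMemClass.coe_mul]
            congr 1
            simp only [γ, if_neg hz, pm]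
          have hw0 : e₀ w ≠ 0 := fun h0 => hz (h0 ▸ zero_mem V)
          refine ⟨IsLocalization.mk' Ba rest (⟨a, Submonoid.mem_powers a⟩ : Submonoid.powers a), ?_⟩
          rw [show jK = IsLocalization.lift _ from rfl, IsLocalization.lift_mk'_spec]
          show (rest : K) = (a : K) * e₀ w
          rw [hfac, mul_comm _ (rest : K), mul_assoc, inv_mul_cancel₀ hw0, mul_one]
    | zero => rw [map_zero]; exact zero_mem _
    | one => rw [map_one]; exact one_mem _
    | add _ _ _ _ h1 h2 => rw [map_add]; exact add_mem h1 h2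
    | neg _ _ h1 => rw [map_neg]; exact neg_mem h1
    | mul _ _ _ _ h1 h2 => rw [map_mul]; exact mul_mem h1 h2
  let eK : Ba ≃+* jK.range := RingEquiv.ofBijective jK.rangeRestrict
    ⟨fun u v h => hjKinj (congrArg Subtype.val h), jK.rangeRestrict_surjective⟩
  let χ : Γ(X, (U₀' : X.Opens)) ⟶ CommRingCat.of Ba :=
    CommRingCat.ofHom (eK.symm.toRingHom.comp (e₀.codRestrict jK.range hrange))
  have hχ : ∀ b, jK (χ.hom b) = e₀ b := fun b =>
    congrArg Subtype.val (eK.apply_symm_apply ⟨e₀ b, hrange b⟩)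
  -- the curve
  let α : Γ(Y, W) ⟶ CommRingCat.of C := CommRingCat.ofHom (φ.comp (algebraMap Γ(Y, W) B))
  let g : Spec (CommRingCat.of C) ⟶ Y := Spec.map α ≫ hW.fromSpec
  haveI : LocallyOfFiniteType (Spec.map α) :=
    (HasRingHomProperty.Spec_iff (P := @LocallyOfFiniteType)).mpr
      (hφft.comp (RingHom.finiteType_algebraMap.mpr inferInstance))
  haveI : LocallyOfFiniteType (g ≫ q) := inferInstance
  haveI : QuasiCompact (g ≫ q) := quasiCompact_of_compactSpace _
  let c₀ : ↥(Spec (CommRingCat.of C)) := ⟨c, hc.isPrime⟩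
  have hc₀ : IsClosed ({c₀} : Set ↥(Spec (CommRingCat.of C))) :=
    (PrimeSpectrum.isClosed_singleton_iff_isMaximal c₀).mpr hc
  let U : (Spec (CommRingCat.of C)).Opens := ⟨{c₀}ᶜ, hc₀.isOpen_compl⟩
  let Ca := Localization.Away (φ a)
  let Oa : Spec (CommRingCat.of Ca) ⟶ Spec (CommRingCat.of C) :=
    Spec.map (CommRingCat.ofHom (algebraMap C Ca))
  haveI : IsOpenImmersion Oa := IsOpenImmersion.of_isLocalization (φ a)
  have hUOa : Set.range U.ι ⊆ Set.range Oa := by
    rw [Scheme.Opens.range_ι,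
      show Set.range Oa = (PrimeSpectrum.basicOpen (φ a) : Set (PrimeSpectrum C)) from
        PrimeSpectrum.localization_away_comap_range Ca (φ a)]
    intro p (hp : p ≠ c₀)
    exact hzero p.asIdeal p.isPrime fun e => hp (PrimeSpectrum.ext e)
  let toCa : (U : Scheme.{u}) ⟶ Spec (CommRingCat.of Ca) := IsOpenImmersion.lift Oa U.ι hUOa
  let φa : Ba →+* Ca := IsLocalization.Away.map Ba Ca φ a
  have hφa' : ∀ b, φa (algebraMap B Ba b) = algebraMap C Ca (φ b) := IsLocalization.map_eq _
  let u : (U : Scheme.{u}) ⟶ X :=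
    toCa ≫ Spec.map (χ ≫ CommRingCat.ofHom φa) ≫ U₀'.2.fromSpec
  have hbase : f.appLE W U₀' hle₀ ≫ χ ≫ CommRingCat.ofHom φa =
      α ≫ CommRingCat.ofHom (algebraMap C Ca) := by
    have h1 : f.appLE W U₀' hle₀ ≫ χ =
        CommRingCat.ofHom ((algebraMap B Ba).comp (algebraMap Γ(Y, W) B)) := by
      ext b
      apply hjKinj
      refine (hχ _).trans ((hθ b).trans ?_)
      exact (hjK (algebraMap Γ(Y, W) B b)).symm
    rw [← Category.assoc, h1]
    ext b
    exact hφa' _
  have huf : u ≫ f = U.ι ≫ g := by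
    show (toCa ≫ _ ≫ _) ≫ f = _
    rw [Category.assoc, Category.assoc, ← IsAffineOpen.SpecMap_appLE_fromSpec f hW U₀'.2 hle₀,
      ← Spec.map_comp_assoc, hbase, Spec.map_comp_assoc]
    show toCa ≫ Oa ≫ g = _
    rw [IsOpenImmersion.lift_fac_assoc]
  -- stalks
  letI : ∀ p : ↥(Spec (CommRingCat.of C)), Algebra C ((Spec (CommRingCat.of C)).presheaf.stalk p) :=
    fun p => StructureSheaf.stalkAlgebra (CommRingCat.of C) p
  haveI hloc : ∀ p : ↥(Spec (CommRingCat.of C)), IsLocalization.AtPrime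
      ((Spec (CommRingCat.of C)).presheaf.stalk p) p.asIdeal := fun p =>
    StructureSheaf.IsLocalization.to_stalk (CommRingCat.of C) p
  haveI : IsIntegral (Spec (CommRingCat.of C)) := inferInstance
  have hnormal : ∀ p : ↥(Spec (CommRingCat.of C)),
      IsIntegrallyClosed ((Spec (CommRingCat.of C)).presheaf.stalk p) := fun p =>
    isIntegrallyClosed_of_isLocalization _ p.asIdeal.primeCompl
      p.asIdeal.primeCompl_le_nonZeroDivisors
  let A := (Spec (CommRingCat.of C)).presheaf.stalk c₀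
  have hdim : ringKrullDim A = 1 := by
    rw [IsLocalization.AtPrime.ringKrullDim_eq_height c₀.asIdeal A, show c₀.asIdeal.height = 1 from hcht]
    rfl
  let L := FractionRing A
  let jL : C →+* L := (algebraMap A L).comp (algebraMap C A)
  have hjL : Function.Injective jL := (IsFractionRing.injective A L).comp
    (IsLocalization.injective A c₀.asIdeal.primeCompl_le_nonZeroDivisors)
  have hfrom : Spec.map (CommRingCat.ofHom (algebraMap A L)) ≫
      (Spec (CommRingCat.of C)).fromSpecStalk c₀ = Spec.map (CommRingCat.ofHom jL) := by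
    rw [Spec.fromSpecStalk_eq', ← Spec.map_comp]
    rfl
  have hgenU : Set.range (Spec.map (CommRingCat.ofHom jL)) ⊆ Set.range U.ι := by
    rintro _ ⟨p, rfl⟩
    rw [Scheme.Opens.range_ι]
    intro e
    have e' : Ideal.comap jL p.asIdeal = c := congrArg PrimeSpectrum.asIdeal e
    rw [(Ideal.eq_bot_or_top p.asIdeal).resolve_right p.isPrime.ne_top,
      ← RingHom.ker_eq_comap_bot, (RingHom.injective_iff_ker_eq_bot _).mp hjL] at e'
    exact Ideal.ne_bot_of_height_eq_one hcht e'.symm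
  let k := IsOpenImmersion.lift U.ι (Spec.map (CommRingCat.ofHom jL)) hgenU
  obtain ⟨l, hl, hlgen⟩ := H (Spec (CommRingCat.of C)) (g ≫ q) hnormal c₀ hc₀ hdim U rfl u g rfl huf
    k ((IsOpenImmersion.lift_fac _ _ _).trans hfrom.symm)
  have hlW : l (closedPoint A) ∈ f ⁻¹ᵁ W := by
    show f (l (closedPoint A)) ∈ W
    rw [← Scheme.Hom.comp_apply, hl, ← Category.assoc]
    exact hW.range_fromSpec.le ⟨_, rfl⟩
  obtain ⟨Uj, hUj, hlU⟩ := Set.mem_iUnion₂.mp (he.le hlW)
  obtain ⟨lam, hlam⟩ := Groth.L18.exists_eq_SpecMap_fromSpec (R := A) Uj.2 l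
    (Groth.L18.range_subset_of_closedPoint_mem (R := A) l hlU)
  -- the image of the generic point
  let jLa : Ca →+* L := IsLocalization.Away.lift (φ a)
    (isUnit_iff_ne_zero.mpr fun h0 => hφa (hjL (h0.trans (map_zero jL).symm)))
  have hjLa : ∀ b, jLa (algebraMap C Ca b) = jL b := IsLocalization.Away.lift_eq (φ a) _
  have hk : k ≫ toCa = Spec.map (CommRingCat.ofHom jLa) := by
    rw [← cancel_mono Oa, Category.assoc, IsOpenImmersion.lift_fac, IsOpenImmersion.lift_fac]
    show _ = _ ≫ Spec.map _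
    rw [← Spec.map_comp]
    congr 1
    ext b
    exact (hjLa b).symm
  let β : Ba →+* L := jLa.comp φa
  have hku : k ≫ u = Spec.map (χ ≫ CommRingCat.ofHom β) ≫ U₀'.2.fromSpec := by
    show k ≫ toCa ≫ _ ≫ _ = _
    rw [reassoc_of% hk, ← Spec.map_comp_assoc]
    rfl
  haveI : IsDomain Ba := hjKinj.isDomain
  haveI := RingHom.ker_isPrime β
  let O := Localization.AtPrime (RingHom.ker β)
  let jO : O →+* K := IsLocalization.lift (M := (RingHom.ker β).primeCompl) (g := jK) fun y =>
    isUnit_iff_ne_zero.mpr fun h0 => y.2 (by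
      rw [show (y : Ba) = 0 from hjKinj (h0.trans (map_zero jK).symm)]
      exact zero_mem _)
  have hjO : ∀ b, jO (algebraMap Ba O b) = jK b := IsLocalization.lift_eq _
  have hjOinj : Function.Injective jO := by
    refine (IsLocalization.lift_injective_iff _).mpr fun b b' => ⟨fun e => ?_, fun e => ?_⟩
    · exact congrArg _ (IsLocalization.injective O
        (RingHom.ker β).primeCompl_le_nonZeroDivisors e)
    · exact congrArg _ (hjKinj e)
  let oL : O →+* L := IsLocalization.lift (M := (RingHom.ker β).primeCompl) (g := β) fun y =>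
    isUnit_iff_ne_zero.mpr y.2
  have hoL : ∀ b, oL (algebraMap Ba O b) = β b := IsLocalization.lift_eq _
  haveI : IsLocalHom oL := ⟨fun z hz => by
    obtain ⟨b, y, rfl⟩ := IsLocalization.exists_mk'_eq (RingHom.ker β).primeCompl z
    refine (IsLocalization.AtPrime.isUnit_mk'_iff O (RingHom.ker β) b y).mpr fun hb => ?_
    refine hz.ne_zero ?_
    rw [IsLocalization.lift_mk'_spec, mul_zero]
    exact hb⟩
  let mO : Spec (CommRingCat.of O) ⟶ X :=
    Spec.map (χ ≫ CommRingCat.ofHom (algebraMap Ba O)) ≫ U₀'.2.fromSpec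
  have hmO : Spec.map (CommRingCat.ofHom oL) ≫ mO = k ≫ u := by
    rw [hku, ← Spec.map_comp_assoc, Category.assoc, ← CommRingCat.ofHom_comp]
    congr 2
    ext b
    exact hoL _
  have hmOU : mO (closedPoint O) ∈ (Uj : X.Opens) := by
    rw [← Groth.L18.apply_closedPoint_of_isLocalHom oL mO, hmO, ← hlgen, hlam, ← Category.assoc]
    exact (Uj.2.range_fromSpec).le ⟨_, rfl⟩
  obtain ⟨χj, hχj⟩ := Groth.L18.exists_eq_SpecMap_fromSpec Uj.2 mO
    (Groth.L18.range_subset_of_closedPoint_mem mO hmOU)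
  have hgenK : Spec.map (CommRingCat.ofHom jO) ≫ mO = X.fromSpecResidueField x := by
    rw [← Groth.L18.SpecMap_evaluation_fromSpec U₀'.2 x hx₀, ← Spec.map_comp_assoc, Category.assoc]
    congr 2
    ext b
    exact (hjO _).trans (hχ b)
  have hxj : x ∈ (Uj : X.Opens) := by
    have := Uj.2.range_fromSpec.le
      ⟨Spec.map (χj ≫ CommRingCat.ofHom jO) (closedPoint K), rfl⟩
    rw [← Scheme.Hom.comp_apply, Spec.map_comp_assoc, ← hχj, hgenK] at this
    erw [Scheme.fromSpecResidueField_apply] at this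
    exact this
  let j : ι := ⟨Uj, hUj, hxj⟩
  have hevj : jO (χj.hom (cf Uj)) = ev j := by
    have h1 := hgenK
    rw [hχj, ← Spec.map_comp_assoc, ← Groth.L18.SpecMap_evaluation_fromSpec Uj.2 x hxj,
      cancel_mono] at h1
    exact congr($(Spec.map_injective h1) (cf Uj))
  have hone : χj.hom (cf Uj) * algebraMap Ba O (algebraMap B Ba (bj j)) = 1 := by
    apply hjOinj
    rw [map_mul, hevj, hjO, hjK, map_one]
    exact mul_inv_cancel₀ (hev j)
  have hlamL : oL (χj.hom (cf Uj)) = algebraMap A L (lam.hom (cf Uj)) := by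
    have h1 := hmO
    rw [← hlgen, hχj, hlam, ← Spec.map_comp_assoc, ← Spec.map_comp_assoc, cancel_mono] at h1
    exact congr($(Spec.map_injective h1) (cf Uj))
  have hfinal : lam.hom (cf Uj) * algebraMap C A (φ (bj j)) = 1 := by
    apply IsFractionRing.injective A L
    have h1 := congrArg oL hone
    rw [map_mul, hlamL, hoL, map_one] at h1
    rw [map_mul, map_one]
    refine Eq.trans ?_ h1
    congr 1
    show jL (φ (bj j)) = jLa (φa _)
    rw [hφa', hjLa]
  have hu := IsUnit.of_mul_eq_one_right _ hfinal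
  rw [IsLocalization.AtPrime.isUnit_to_map_iff A c₀.asIdeal] at hu
  exact hu (hcP.ge (hbj j))

omit [LocallyOfFiniteType q] [LocallyOfFiniteType f] [QuasiCompact f] in
/-- A morphism which is universally closed lifts all curve germs. -/
theorem curveLifts_of_universallyClosed [IsLocallyNoetherian S] [UniversallyClosed f] :
    CurveLifts q f := by
  intro C r _ _ _ hn c hc hdim U hU u g hg huf k hk
  haveI : IsLocallyNoetherian C := LocallyOfFiniteType.isLocallyNoetherian r
  haveI := hn c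
  haveI := valuationRing_of_dim_one hdim
  have hf : UniversallyClosed f := inferInstance
  rw [UniversallyClosed.eq_valuativeCriterion] at hf
  obtain ⟨⟨l⟩⟩ := hf.1 { R := C.presheaf.stalk c, K := FractionRing (C.presheaf.stalk c),
                         i₁ := k ≫ u, i₂ := C.fromSpecStalk c ≫ g,
                         commSq := ⟨by rw [Category.assoc, huf, reassoc_of% hk]⟩ }
  exact ⟨l.l, l.fac_right, l.fac_left⟩

end Groth.L19.Curves
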